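import Mathlib

/-! Semilinear endomorphisms of finite-dimensional vector spaces: images of iterates,
the "semisimple part", injectivity on it. -/

set_option autoImplicit false

namespace Groth.Agent.Helper6.SigmaLin

universe u v
variable {k : Type u} [Field k] {σ : k →+* k} {V : Type v} [AddCommGroup V] [Module k V]

theorem iterate_smul (T : V →ₛₗ[σ] V) (n : ℕ) (c : k) (v : V) :
    (⇑T)^[n] (c • v) = (⇑σ)^[n] c • (⇑T)^[n] v := by
  induction n generalizing c v with
  | zero => rfl
  | succ n ih =>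
    rw [Function.iterate_succ_apply', Function.iterate_succ_apply', Function.iterate_succ_apply', ih,
      LinearMap.map_smulₛₗ]

theorem iterate_add (T : V →ₛₗ[σ] V) (n : ℕ) (v w : V) :
    (⇑T)^[n] (v + w) = (⇑T)^[n] v + (⇑T)^[n] w := by
  induction n with
  | zero => rfl
  | succ n ih =>
    rw [Function.iterate_succ_apply', Function.iterate_succ_apply', Function.iterate_succ_apply', ih,
      map_add]

theorem iterate_zero (T : V →ₛₗ[σ] V) (n : ℕ) : (⇑T)^[n] (0 : V) = 0 := by
  induction n with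
  | zero => rfl
  | succ n ih => rw [Function.iterate_succ_apply', ih, map_zero]

theorem iterate_sub (T : V →ₛₗ[σ] V) (n : ℕ) (v w : V) :
    (⇑T)^[n] (v - w) = (⇑T)^[n] v - (⇑T)^[n] w := by
  induction n with
  | zero => rfl
  | succ n ih =>
    rw [Function.iterate_succ_apply', Function.iterate_succ_apply', Function.iterate_succ_apply', ih,
      map_sub]

/-- the span of the image of the `n`-th iterate -/
def Im (T : V →ₛₗ[σ] V) (n : ℕ) : Submodule k V := Submodule.span k (Set.range ((⇑T)^[n]))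

theorem iterate_mem_Im (T : V →ₛₗ[σ] V) (n : ℕ) (v : V) : (⇑T)^[n] v ∈ Im T n :=
  Submodule.subset_span (Set.mem_range_self v)

theorem Im_succ_le (T : V →ₛₗ[σ] V) (n : ℕ) : Im T (n + 1) ≤ Im T n := by
  unfold Im
  apply Submodule.span_mono
  rintro _ ⟨w, rfl⟩
  exact ⟨T w, by rw [Function.iterate_succ_apply]⟩

theorem Im_antitone (T : V →ₛₗ[σ] V) : Antitone (Im T) :=
  antitone_nat_of_succ_le (Im_succ_le T)

theorem map_mem_Im_succ (T : V →ₛₗ[σ] V) (n : ℕ) (v : V) (hv : v ∈ Im T n) :
    T v ∈ Im T (n + 1) := by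
  unfold Im at hv
  induction hv using Submodule.span_induction with
  | mem x hx =>
    obtain ⟨w, rfl⟩ := hx
    rw [← Function.iterate_succ_apply' (⇑T) n w]
    exact iterate_mem_Im T (n + 1) w
  | zero => rw [map_zero]; exact Submodule.zero_mem _
  | add x y _ _ hx hy => rw [map_add]; exact Submodule.add_mem _ hx hy
  | smul c x _ hx => rw [LinearMap.map_smulₛₗ]; exact Submodule.smul_mem _ _ hx

theorem iterate_mem_Im_add (T : V →ₛₗ[σ] V) (n m : ℕ) (v : V) (hv : v ∈ Im T n) :
    (⇑T)^[m] v ∈ Im T (n + m) := by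
  induction m with
  | zero => exact hv
  | succ m ih =>
    rw [Function.iterate_succ_apply', ← add_assoc]
    exact map_mem_Im_succ T _ _ ih

/-- the semisimple part: intersection of all `Im T n` -/
def Ss (T : V →ₛₗ[σ] V) : Submodule k V := ⨅ n, Im T n

theorem Ss_le_Im (T : V →ₛₗ[σ] V) (n : ℕ) : Ss T ≤ Im T n := iInf_le _ n

theorem map_mem_Ss (T : V →ₛₗ[σ] V) (v : V) (hv : v ∈ Ss T) : T v ∈ Ss T := by
  unfold Ss at *
  rw [Submodule.mem_iInf] at *
  intro n
  rcases n with _ | n
  · unfold Im; simp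
  · exact map_mem_Im_succ T n v (hv n)

theorem mem_Ss_of_fixed (T : V →ₛₗ[σ] V) (v : V) (hv : T v = v) : v ∈ Ss T := by
  unfold Ss
  rw [Submodule.mem_iInf]
  intro n
  have : (⇑T)^[n] v = v := Function.iterate_fixed hv n
  rw [← this]
  exact iterate_mem_Im T n v

section FD
variable [FiniteDimensional k V]

theorem exists_stable (T : V →ₛₗ[σ] V) : ∃ N, ∀ m, N ≤ m → Im T m = Im T N := by
  have := IsArtinian.monotone_stabilizes (R := k) (M := V)
    ⟨fun n => OrderDual.toDual (Im T n), fun a b hab => Im_antitone T hab⟩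
  obtain ⟨N, hN⟩ := this
  refine ⟨N, fun m hm => ?_⟩
  have := hN m hm
  exact (congrArg OrderDual.ofDual this).symm

theorem exists_Ss_eq (T : V →ₛₗ[σ] V) : ∃ N, ∀ m, N ≤ m → Ss T = Im T m := by
  obtain ⟨N, hN⟩ := exists_stable T
  refine ⟨N, fun m hm => ?_⟩
  apply le_antisymm (Ss_le_Im T m)
  unfold Ss
  rw [le_iInf_iff]
  intro n
  rcases le_total n m with h | h
  · exact Im_antitone T h
  · rw [hN m hm, ← hN n (hm.trans h)]

/-- a semilinear endomorphism whose image spans is injective -/
theorem injective_of_span_range_eq_top (T : V →ₛₗ[σ] V)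
    (h : Submodule.span k (Set.range ⇑T) = ⊤) : Function.Injective T := by
  classical
  let b := Module.finBasis k V
  have hmem : ∀ v, T v = ∑ i, σ (b.repr v i) • T (b i) := by
    intro v
    conv_lhs => rw [← b.sum_repr v]
    rw [map_sum]
    refine Finset.sum_congr rfl fun i _ => ?_
    rw [LinearMap.map_smulₛₗ]
  have hspan : ⊤ ≤ Submodule.span k (Set.range (fun i => T (b i))) := by
    rw [← h]
    apply Submodule.span_le.mpr
    rintro _ ⟨v, rfl⟩
    rw [hmem]
    apply Submodule.sum_mem
    intro i _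
    exact Submodule.smul_mem _ _ (Submodule.subset_span (Set.mem_range_self i))
  have hli : LinearIndependent k (fun i => T (b i)) :=
    linearIndependent_of_top_le_span_of_card_eq_finrank hspan (by simp)
  rw [injective_iff_map_eq_zero]
  intro v hv
  rw [hmem] at hv
  have h0 := Fintype.linearIndependent_iff.mp hli _ hv
  have : b.repr v = 0 := by
    ext i
    have := h0 i
    exact (map_eq_zero σ).mp this
  exact (LinearEquiv.map_eq_zero_iff _).mp this

end FD

/-- restriction of a semilinear endomorphism to a stable subspace -/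
def restr (T : V →ₛₗ[σ] V) (U : Submodule k V) (hU : ∀ v ∈ U, T v ∈ U) : U →ₛₗ[σ] U :=
  (T.domRestrict U).codRestrict U (fun v => hU v v.2)

@[simp] theorem restr_apply (T : V →ₛₗ[σ] V) (U : Submodule k V) (hU : ∀ v ∈ U, T v ∈ U) (v : U) :
    ((restr T U hU v : U) : V) = T v := rfl

/-- the restriction to the semisimple part -/
def Ts (T : V →ₛₗ[σ] V) : Ss T →ₛₗ[σ] Ss T := restr T (Ss T) (map_mem_Ss T)

@[simp] theorem Ts_apply (T : V →ₛₗ[σ] V) (v : Ss T) : ((Ts T v : Ss T) : V) = T v := rfl

theorem Ts_iterate (T : V →ₛₗ[σ] V) (n : ℕ) (v : Ss T) :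
    (((⇑(Ts T))^[n] v : Ss T) : V) = (⇑T)^[n] (v : V) := by
  induction n with
  | zero => rfl
  | succ n ih => rw [Function.iterate_succ_apply', Function.iterate_succ_apply', Ts_apply, ih]

section FD2
variable [FiniteDimensional k V]

theorem span_range_Ts (T : V →ₛₗ[σ] V) : Submodule.span k (Set.range ⇑(Ts T)) = ⊤ := by
  obtain ⟨N, hN⟩ := exists_Ss_eq T
  rw [eq_top_iff]
  rintro ⟨v, hv⟩ _
  -- v ∈ Ss = Im (N+1) = span of T(T^N w), and T^N w ∈ Im N = Ss
  have hv' : v ∈ Im T (N + 1) := by rw [← hN (N + 1) (Nat.le_succ N)]; exact hv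
  have key : ∀ x ∈ Im T (N + 1), ∀ hx : x ∈ Ss T,
      (⟨x, hx⟩ : Ss T) ∈ Submodule.span k (Set.range ⇑(Ts T)) := by
    intro x hx
    unfold Im at hx
    induction hx using Submodule.span_induction with
    | mem x hx =>
      intro hxs
      obtain ⟨w, rfl⟩ := hx
      have hw : (⇑T)^[N] w ∈ Ss T := by rw [hN N le_rfl]; exact iterate_mem_Im T N w
      apply Submodule.subset_span
      refine ⟨⟨_, hw⟩, ?_⟩
      apply Subtype.ext
      rw [Ts_apply]
      exact (Function.iterate_succ_apply' (⇑T) N w).symm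
    | zero =>
      intro _
      exact Submodule.zero_mem _
    | add x y hx' hy' hx hy =>
      intro hxy
      have hxs : x ∈ Ss T := by rw [hN (N + 1) (Nat.le_succ N)]; exact hx'
      have hys : y ∈ Ss T := by rw [hN (N + 1) (Nat.le_succ N)]; exact hy'
      have := Submodule.add_mem _ (hx hxs) (hy hys)
      exact this
    | smul c x hx' hx =>
      intro hcx
      have hxs : x ∈ Ss T := by rw [hN (N + 1) (Nat.le_succ N)]; exact hx'
      have := Submodule.smul_mem _ c (hx hxs)
      exact this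
  exact key v hv' hv

theorem Ts_injective (T : V →ₛₗ[σ] V) : Function.Injective (Ts T) :=
  injective_of_span_range_eq_top (Ts T) (span_range_Ts T)

/-- nilpotent and semisimple parts meet trivially (S19229) -/
theorem eq_zero_of_nil_of_ss (T : V →ₛₗ[σ] V) (v : V) (n : ℕ) (hnil : (⇑T)^[n] v = 0)
    (hss : v ∈ Ss T) : v = 0 := by
  have h1 : (⇑(Ts T))^[n] ⟨v, hss⟩ = 0 := by
    apply Subtype.ext
    rw [Ts_iterate]
    exact hnil
  have hinj : Function.Injective (⇑(Ts T))^[n] := (Ts_injective T).iterate n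
  have h0 : (⇑(Ts T))^[n] (0 : Ss T) = 0 := iterate_zero (Ts T) n
  have := hinj (h1.trans h0.symm)
  exact congrArg Subtype.val this

end FD2

end Groth.Agent.Helper6.SigmaLin
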