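import Groth.Agent.Lib.Helper6.SigmaLin.Ring

/-! Finiteness of the set of fixed points. -/

set_option autoImplicit false

namespace Groth.Agent.Helper6.SigmaLin

universe u v

open scoped Pointwise

section Field
variable {k : Type u} [Field k] {σ : k →+* k} {V : Type v} [AddCommGroup V] [Module k V]

theorem fixed_repr {ι : Type*} [Fintype ι] [DecidableEq ι] (T : V →ₛₗ[σ] V) (b : Module.Basis ι k V)
    (hb : ∀ i, T (b i) = b i) (v : V) (hv : T v = v) (i : ι) : σ (b.repr v i) = b.repr v i := by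
  have h1 : T v = ∑ j, σ (b.repr v j) • b j := by
    conv_lhs => rw [← b.sum_repr v]
    rw [map_sum]
    refine Finset.sum_congr rfl fun j _ => ?_
    rw [LinearMap.map_smulₛₗ, hb j]
  have h4 : b.repr (T v) i = σ (b.repr v i) := by
    rw [h1, b.repr_sum_self]
  rw [hv] at h4
  exact h4.symm

theorem finite_Fix [FiniteDimensional k V] (T : V →ₛₗ[σ] V) (h2 : H2 σ) (h3 : H3 σ)
    (hfin : {c : k | σ c = c}.Finite) : {v : V | T v = v}.Finite := by
  classical
  obtain ⟨b, hb⟩ := exists_basis_fixed_Ss T h2 h3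
  haveI : Finite {c : k | σ c = c} := hfin
  let g : (Fin (Module.finrank k (Ss T)) → {c : k | σ c = c}) → V :=
    fun c => ∑ i, (c i : k) • (b i : V)
  apply (Set.finite_range g).subset
  intro v hv
  have hvs : v ∈ Ss T := mem_Ss_of_fixed T v hv
  have hb' : ∀ i, Ts T (b i) = b i := fun i => Subtype.ext (hb i)
  have hv' : Ts T ⟨v, hvs⟩ = ⟨v, hvs⟩ := Subtype.ext hv
  have hc := fixed_repr (Ts T) b hb' ⟨v, hvs⟩ hv'
  refine ⟨fun i => ⟨b.repr ⟨v, hvs⟩ i, hc i⟩, ?_⟩
  simp only [g]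
  have := congrArg Subtype.val (b.sum_repr ⟨v, hvs⟩)
  rw [Submodule.coe_sum] at this
  simp only [Submodule.coe_smul] at this
  exact this

end Field

section Ring

attribute [local instance] Ideal.Quotient.field

variable {R : Type u} [CommRing R] (𝔪 : Ideal R) [𝔪.IsMaximal]
  {σ : R →+* R} (σbar : R ⧸ 𝔪 →+* R ⧸ 𝔪)
  (hσbar : ∀ r, σbar (Ideal.Quotient.mk 𝔪 r) = Ideal.Quotient.mk 𝔪 (σ r))

/-- restriction of a semilinear endomorphism to a stable submodule -/
def restrR {M : Type v} [AddCommGroup M] [Module R M] (T : M →ₛₗ[σ] M) (U : Submodule R M)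
    (hU : ∀ v ∈ U, T v ∈ U) : U →ₛₗ[σ] U :=
  (T.domRestrict U).codRestrict U (fun v => hU v v.2)

include hσbar in
theorem finite_Fix_ring (π : R) (h𝔪 : 𝔪 = Ideal.span {π}) (hσπ : σ π = π)
    (h2 : H2 σbar) (h3 : H3 σbar) (hfin : {c : R ⧸ 𝔪 | σbar c = c}.Finite) :
    ∀ (j : ℕ) (M : Type v) [AddCommGroup M] [Module R M] [Module.Finite R M] (T : M →ₛₗ[σ] M),
      (∀ m : M, π ^ j • m = 0) → {m : M | T m = m}.Finite := by
  have hσ𝔪 : ∀ a ∈ 𝔪, σ a ∈ 𝔪 := by
    intro a ha
    rw [h𝔪, Ideal.mem_span_singleton'] at ha ⊢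
    obtain ⟨r, rfl⟩ := ha
    exact ⟨σ r, by rw [map_mul, hσπ]⟩
  intro j
  induction j with
  | zero =>
    intro M _ _ _ T h0
    apply (Set.finite_singleton (0 : M)).subset
    intro m _
    have := h0 m
    simpa using this
  | succ j ih =>
    intro M _ _ _ T hj
    set N : Submodule R M := (𝔪 • ⊤ : Submodule R M) with hN
    have hNT : ∀ v ∈ N, T v ∈ N := fun v hv => map_smul_top_le 𝔪 hσ𝔪 T hv
    have hNfg : N.FG := by
      apply Submodule.FG.smul
      · rw [h𝔪]; exact ⟨{π}, by simp⟩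
      · exact Module.Finite.fg_top
    haveI : Module.Finite R N := Module.Finite.iff_fg.mpr hNfg
    have hNj : ∀ x : N, π ^ j • x = 0 := by
      rintro ⟨x, hx⟩
      apply Subtype.ext
      have hx' : x ∈ (π • ⊤ : Submodule R M) := by
        rw [← Submodule.ideal_span_singleton_smul, ← h𝔪]; exact hx
      rw [Submodule.mem_smul_pointwise_iff_exists] at hx'
      obtain ⟨m, -, rfl⟩ := hx'
      show π ^ j • π • m = 0
      rw [← mul_smul, ← pow_succ]
      exact hj m
    have hfinN := ih N (restrR T N hNT) hNj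
    have hfinV := finite_Fix (Tbar 𝔪 σbar hσbar hσ𝔪 T) h2 h3 hfin
    -- fibres
    have hsub : {m : M | T m = m} ⊆ ⋃ b ∈ {x : M ⧸ N | Tbar 𝔪 σbar hσbar hσ𝔪 T x = x},
        ({m : M | T m = m} ∩ {m | Submodule.Quotient.mk m = b}) := by
      intro m hm
      simp only [Set.mem_iUnion, Set.mem_inter_iff]
      refine ⟨Submodule.Quotient.mk m, ?_, hm, rfl⟩
      show Tbar 𝔪 σbar hσbar hσ𝔪 T (Submodule.Quotient.mk m) = Submodule.Quotient.mk m
      rw [Tbar_mk]
      congr 1
    apply (Set.Finite.biUnion hfinV ?_).subset hsub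
    intro b _
    by_cases hne : ({m : M | T m = m} ∩ {m | Submodule.Quotient.mk m = b}).Nonempty
    · obtain ⟨a₀, ha₀, ha₀b⟩ := hne
      apply (hfinN.image (fun x : N => a₀ + (x : M))).subset
      rintro m ⟨hm, hmb⟩
      have hdiff : m - a₀ ∈ N := by
        rw [← Submodule.Quotient.eq]
        exact hmb.trans ha₀b.symm
      refine ⟨⟨m - a₀, hdiff⟩, ?_, by simp⟩
      apply Subtype.ext
      show T (m - a₀) = m - a₀
      have hm' : T m = m := hm
      have ha₀' : T a₀ = a₀ := ha₀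
      rw [map_sub, hm', ha₀']
    · rw [Set.not_nonempty_iff_eq_empty] at hne
      rw [hne]
      exact Set.finite_empty

end Ring

end Groth.Agent.Helper6.SigmaLin
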