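import Groth.Agent.Lib.Helper6.SigmaLin.Basic

/-! Fitting decomposition for semilinear endomorphisms (surjective `σ`). -/

set_option autoImplicit false

namespace Groth.Agent.Helper6.SigmaLin

universe u v
variable {k : Type u} [Field k] {σ : k →+* k} {V : Type v} [AddCommGroup V] [Module k V]

/-- kernel of the `n`-th iterate -/
def Ker (T : V →ₛₗ[σ] V) (n : ℕ) : Submodule k V where
  carrier := {v | (⇑T)^[n] v = 0}
  zero_mem' := iterate_zero T n
  add_mem' := by
    intro a b ha hb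
    simp only [Set.mem_ofPred_eq] at *
    rw [iterate_add, ha, hb, add_zero]
  smul_mem' := by
    intro c a ha
    simp only [Set.mem_ofPred_eq] at *
    rw [iterate_smul, ha, smul_zero]

theorem mem_Ker (T : V →ₛₗ[σ] V) (n : ℕ) (v : V) : v ∈ Ker T n ↔ (⇑T)^[n] v = 0 := Iff.rfl

theorem Ker_mono (T : V →ₛₗ[σ] V) : Monotone (Ker T) := by
  intro a b hab v hv
  rw [mem_Ker] at *
  obtain ⟨c, rfl⟩ := Nat.exists_eq_add_of_le hab
  rw [add_comm, Function.iterate_add_apply, hv, iterate_zero]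

/-- the nilpotent part -/
def Nil (T : V →ₛₗ[σ] V) : Submodule k V := ⨆ n, Ker T n

theorem mem_Nil (T : V →ₛₗ[σ] V) (v : V) : v ∈ Nil T ↔ ∃ n, (⇑T)^[n] v = 0 := by
  unfold Nil
  rw [Submodule.mem_iSup_of_directed _ (Ker_mono T).directed_le]
  rfl

section FD
variable [FiniteDimensional k V]

theorem exists_Nil_eq (T : V →ₛₗ[σ] V) : ∃ N, ∀ v ∈ Nil T, (⇑T)^[N] v = 0 := by
  obtain ⟨N, hN⟩ := monotone_stabilizes_iff_noetherian.mpr (inferInstance : IsNoetherian k V)
    ⟨Ker T, Ker_mono T⟩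
  refine ⟨N, fun v hv => ?_⟩
  obtain ⟨n, hn⟩ := (mem_Nil T v).mp hv
  rcases le_total n N with h | h
  · exact Ker_mono T h hn
  · have : Ker T N = Ker T n := hN n h
    have hv' : v ∈ Ker T n := hn
    rw [← this] at hv'
    exact hv'

theorem disjoint_Nil_Ss (T : V →ₛₗ[σ] V) : Disjoint (Nil T) (Ss T) := by
  rw [Submodule.disjoint_def]
  intro v hv hs
  obtain ⟨n, hn⟩ := (mem_Nil T v).mp hv
  exact eq_zero_of_nil_of_ss T v n hn hs

theorem Ts_surjective (T : V →ₛₗ[σ] V) (hσ : Function.Surjective σ) :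
    Function.Surjective (Ts T) := by
  haveI : RingHomSurjective σ := ⟨hσ⟩
  have h1 : Submodule.span k (Set.range ⇑(Ts T)) = LinearMap.range (Ts T) := by
    rw [← LinearMap.coe_range, Submodule.span_eq]
  rw [← LinearMap.range_eq_top, ← h1]
  exact span_range_Ts T

theorem codisjoint_Nil_Ss (T : V →ₛₗ[σ] V) (hσ : Function.Surjective σ) :
    Codisjoint (Nil T) (Ss T) := by
  rw [codisjoint_iff, eq_top_iff]
  intro v _
  obtain ⟨N, hN⟩ := exists_Ss_eq T
  have hmem : (⇑T)^[N] v ∈ Ss T := by rw [hN N le_rfl]; exact iterate_mem_Im T N v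
  have hsurj : Function.Surjective (⇑(Ts T))^[N] := (Ts_surjective T hσ).iterate N
  obtain ⟨s, hs⟩ := hsurj ⟨_, hmem⟩
  have hs' : (⇑T)^[N] (s : V) = (⇑T)^[N] v := by
    have := congrArg Subtype.val hs
    rw [Ts_iterate] at this
    exact this
  have hnil : v - s ∈ Nil T := by
    rw [mem_Nil]
    exact ⟨N, by rw [iterate_sub, hs', sub_self]⟩
  have : v = (v - s) + s := by abel
  rw [this]
  exact Submodule.add_mem_sup hnil s.2

theorem isCompl_Nil_Ss (T : V →ₛₗ[σ] V) (hσ : Function.Surjective σ) :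
    IsCompl (Nil T) (Ss T) := ⟨disjoint_Nil_Ss T, codisjoint_Nil_Ss T hσ⟩

theorem bijOn_Ss (T : V →ₛₗ[σ] V) (hσ : Function.Surjective σ) :
    Set.BijOn (⇑T) (Ss T : Set V) (Ss T : Set V) := by
  refine ⟨fun v hv => map_mem_Ss T v hv, ?_, ?_⟩
  · intro a ha b hb hab
    have : Ts T ⟨a, ha⟩ = Ts T ⟨b, hb⟩ := Subtype.ext hab
    exact congrArg Subtype.val (Ts_injective T this)
  · intro w hw
    obtain ⟨s, hs⟩ := Ts_surjective T hσ ⟨w, hw⟩
    exact ⟨s, s.2, congrArg Subtype.val hs⟩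

end FD

end Groth.Agent.Helper6.SigmaLin
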