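import Groth.Agent.Lib.Helper6.SigmaLin.Basic

/-! Existence of fixed vectors for semilinear endomorphisms (Lang / Dieudonné). -/

set_option autoImplicit false

namespace Groth.Agent.Helper6.SigmaLin

universe u v
variable {k : Type u} [Field k] {σ : k →+* k} {V : Type v} [AddCommGroup V] [Module k V]

/-- hypothesis (i): solvability of the "characteristic equations" -/
def H2 (σ : k →+* k) : Prop :=
  ∀ (n : ℕ) (b : Fin (n + 1) → k), b ≠ 0 →
      ∃ x : k, x ≠ 0 ∧ x = ∑ i : Fin (n + 1), (⇑σ)^[i.val + 1] x * (⇑σ)^[i.val] (b (Fin.rev i))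

/-- hypothesis (ii): Artin–Schreier type equations are solvable -/
def H3 (σ : k →+* k) : Prop := ∀ c : k, ∃ y : k, σ y - y + c = 0

/-- span of the first `n+1` elements of the orbit -/
def L (T : V →ₛₗ[σ] V) (e : V) (n : ℕ) : Submodule k V :=
  Submodule.span k (Set.range fun i : Fin (n + 1) => (⇑T)^[i.val] e)

theorem L_mono (T : V →ₛₗ[σ] V) (e : V) : Monotone (L T e) := by
  intro a b hab
  unfold L
  apply Submodule.span_mono
  rintro _ ⟨i, rfl⟩
  exact ⟨⟨i.val, by omega⟩, rfl⟩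

theorem mem_L (T : V →ₛₗ[σ] V) (e : V) (n j : ℕ) (hj : j ≤ n) : (⇑T)^[j] e ∈ L T e n :=
  Submodule.subset_span ⟨⟨j, by omega⟩, rfl⟩

theorem exists_fixed_in_orbit [FiniteDimensional k V] (T : V →ₛₗ[σ] V) (h2 : H2 σ)
    (e : V) (he : ∀ m : ℕ, (⇑T)^[m] e ≠ 0) :
    ∃ v ∈ Submodule.span k (Set.range (fun m : ℕ => (⇑T)^[m] e)), v ≠ 0 ∧ T v = v := by
  classical
  -- the chain `L n` stabilizes
  have hex : ∃ n, (⇑T)^[n + 1] e ∈ L T e n := by
    obtain ⟨n, hn⟩ := monotone_stabilizes_iff_noetherian.mpr (inferInstance : IsNoetherian k V)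
      ⟨L T e, L_mono T e⟩
    refine ⟨n, ?_⟩
    have h1 : L T e n = L T e (n + 1) := hn (n + 1) (Nat.le_succ n)
    rw [h1]
    exact mem_L T e (n + 1) (n + 1) le_rfl
  set n := Nat.find hex with hn
  have hPn : (⇑T)^[n + 1] e ∈ L T e n := Nat.find_spec hex
  have hmin : ∀ j, j < n → (⇑T)^[j + 1] e ∉ L T e j := fun j hj => Nat.find_min hex hj
  obtain ⟨b, hb⟩ := (Submodule.mem_span_range_iff_exists_fun k).mp hPn
  have hb0 : b ≠ 0 := by
    rintro rfl
    apply he (n + 1)
    rw [← hb]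
    simp
  obtain ⟨x, hx0, hx⟩ := h2 n b hb0
  let b' : ℕ → k := fun m => if h : m < n + 1 then b ⟨m, h⟩ else 0
  let xs : ℕ → k := fun j => ∑ i ∈ Finset.range (j + 1), (⇑σ)^[i + 1] x * (⇑σ)^[i] (b' (j - i))
  have hxs_n : xs n = x := by
    rw [hx]
    simp only [xs]
    rw [Finset.sum_range]
    refine Finset.sum_congr rfl fun i _ => ?_
    have : b' (n - i.val) = b (Fin.rev i) := by
      simp only [b']
      rw [dif_pos (by omega)]
      congr 1
      apply Fin.ext
      rw [Fin.val_rev]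
      simp
    rw [this]
  have hxs_succ : ∀ j, xs (j + 1) = σ (xs j) + σ x * b' (j + 1) := by
    intro j
    simp only [xs]
    rw [Finset.sum_range_succ', map_sum]
    congr 1
    · refine Finset.sum_congr rfl fun i _ => ?_
      rw [map_mul, ← Function.iterate_succ_apply' (⇑σ) (i + 1) x,
        ← Function.iterate_succ_apply' (⇑σ) i]
      congr 3
      omega
  have hxs_zero : xs 0 = σ x * b' 0 := by simp [xs]
  have hbsum : (⇑T)^[n + 1] e = ∑ i ∈ Finset.range (n + 1), b' i • (⇑T)^[i] e := by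
    rw [← hb, Finset.sum_range]
    refine Finset.sum_congr rfl fun i _ => ?_
    simp only [b']
    rw [dif_pos i.2]
  let v : V := ∑ j ∈ Finset.range (n + 1), xs j • (⇑T)^[j] e
  have hv_mem : v ∈ Submodule.span k (Set.range (fun m : ℕ => (⇑T)^[m] e)) := by
    apply Submodule.sum_mem
    intro j _
    exact Submodule.smul_mem _ _ (Submodule.subset_span ⟨j, rfl⟩)
  have hTv : T v = v := by
    have h1 : T v = ∑ j ∈ Finset.range n, σ (xs j) • (⇑T)^[j + 1] e
        + σ x • ∑ i ∈ Finset.range (n + 1), b' i • (⇑T)^[i] e := by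
      simp only [v]
      rw [map_sum, Finset.sum_range_succ]
      congr 1
      · refine Finset.sum_congr rfl fun j _ => ?_
        rw [LinearMap.map_smulₛₗ, Function.iterate_succ_apply']
      · rw [LinearMap.map_smulₛₗ, hxs_n, ← Function.iterate_succ_apply' (⇑T) n e, hbsum]
    have h2' : v = xs 0 • e + ∑ j ∈ Finset.range n, xs (j + 1) • (⇑T)^[j + 1] e := by
      simp only [v]
      rw [Finset.sum_range_succ', add_comm]
      rfl
    have h3 : σ x • ∑ i ∈ Finset.range (n + 1), b' i • (⇑T)^[i] e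
        = (σ x * b' 0) • e + ∑ j ∈ Finset.range n, (σ x * b' (j + 1)) • (⇑T)^[j + 1] e := by
      rw [Finset.sum_range_succ', smul_add, Finset.smul_sum, add_comm]
      congr 1
      · rw [smul_smul]; rfl
      · refine Finset.sum_congr rfl fun j _ => ?_
        rw [smul_smul]
    rw [h1, h3, h2', hxs_zero]
    rw [add_comm, add_assoc, ← Finset.sum_add_distrib]
    congr 1
    refine Finset.sum_congr rfl fun j _ => ?_
    rw [hxs_succ, add_smul, add_comm]
  refine ⟨v, hv_mem, ?_, hTv⟩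
  intro hv0
  have hv' : (∑ j ∈ Finset.range n, xs j • (⇑T)^[j] e) + x • (⇑T)^[n] e = 0 := by
    have : v = (∑ j ∈ Finset.range n, xs j • (⇑T)^[j] e) + xs n • (⇑T)^[n] e :=
      Finset.sum_range_succ _ n
    rw [← hxs_n, ← this]; exact hv0
  have hTn : (⇑T)^[n] e = -(x⁻¹ • ∑ j ∈ Finset.range n, xs j • (⇑T)^[j] e) := by
    have h5 : x • (⇑T)^[n] e = -(∑ j ∈ Finset.range n, xs j • (⇑T)^[j] e) :=
      eq_neg_of_add_eq_zero_right hv'
    have h6 : x⁻¹ • (x • (⇑T)^[n] e) = (⇑T)^[n] e := by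
      rw [smul_smul, inv_mul_cancel₀ hx0, one_smul]
    rw [← h6, h5, smul_neg]
  rcases Nat.eq_zero_or_pos n with h0 | hpos
  · rw [h0] at hTn
    apply he 0
    rw [hTn]
    simp
  · obtain ⟨n', hn'⟩ : ∃ n', n = n' + 1 := ⟨n - 1, by omega⟩
    apply hmin n' (by omega)
    rw [← hn', hTn]
    apply Submodule.neg_mem
    apply Submodule.smul_mem
    apply Submodule.sum_mem
    intro j hj
    apply Submodule.smul_mem
    exact mem_L T e n' j (by have := Finset.mem_range.mp hj; omega)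

end Groth.Agent.Helper6.SigmaLin
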