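import Groth.Agent.Lib.Helper6.SigmaLin.Fixed

/-! Basis of fixed vectors and surjectivity of `1 - T`. -/

set_option autoImplicit false

namespace Groth.Agent.Helper6.SigmaLin

universe u v
variable {k : Type u} [Field k] {σ : k →+* k} {V : Type v} [AddCommGroup V] [Module k V]

/-- the fixed vectors -/
def Fix (T : V →ₛₗ[σ] V) : Set V := {v | T v = v}

theorem map_mem_span_Fix (T : V →ₛₗ[σ] V) (w : V) (hw : w ∈ Submodule.span k (Fix T)) :
    T w ∈ Submodule.span k (Fix T) := by
  induction hw using Submodule.span_induction with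
  | mem x hx => rw [hx]; exact Submodule.subset_span hx
  | zero => rw [map_zero]; exact Submodule.zero_mem _
  | add x y _ _ hx hy => rw [map_add]; exact Submodule.add_mem _ hx hy
  | smul c x _ hx => rw [LinearMap.map_smulₛₗ]; exact Submodule.smul_mem _ _ hx

/-- on the span of fixed vectors, `1 - T` is surjective (given H3) -/
theorem exists_sub_eq_of_mem_span_Fix (T : V →ₛₗ[σ] V) (h3 : H3 σ) (w : V)
    (hw : w ∈ Submodule.span k (Fix T)) :
    ∃ u ∈ Submodule.span k (Fix T), u - T u = w := by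
  suffices h : ∀ c : k, ∃ u ∈ Submodule.span k (Fix T), u - T u = c • w by
    obtain ⟨u, hu, hu'⟩ := h 1
    exact ⟨u, hu, by rw [hu', one_smul]⟩
  induction hw using Submodule.span_induction with
  | mem x hx =>
    intro c
    obtain ⟨y, hy⟩ := h3 c
    refine ⟨y • x, Submodule.smul_mem _ _ (Submodule.subset_span hx), ?_⟩
    have hx' : T x = x := hx
    rw [LinearMap.map_smulₛₗ, hx', ← sub_smul]
    congr 1
    linear_combination (-1 : k) * hy
  | zero =>
    intro c
    exact ⟨0, Submodule.zero_mem _, by simp⟩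
  | add x y _ _ hx hy =>
    intro c
    obtain ⟨u₁, hu₁, h₁⟩ := hx c
    obtain ⟨u₂, hu₂, h₂⟩ := hy c
    refine ⟨u₁ + u₂, Submodule.add_mem _ hu₁ hu₂, ?_⟩
    rw [map_add, smul_add, ← h₁, ← h₂]; abel
  | smul a x _ hx =>
    intro c
    obtain ⟨u, hu, h⟩ := hx (c * a)
    exact ⟨u, hu, by rw [h, mul_smul]⟩

section FD
variable [FiniteDimensional k V]

/-- if the image of `T` spans, the fixed vectors span (given H2, H3) -/
theorem span_Fix_eq_top (T : V →ₛₗ[σ] V) (h1 : Submodule.span k (Set.range ⇑T) = ⊤)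
    (h2 : H2 σ) (h3 : H3 σ) : Submodule.span k (Fix T) = ⊤ := by
  classical
  set W := Submodule.span k (Fix T) with hW
  by_contra hne
  have hWT : W ≤ W.comap T := fun w hw => map_mem_span_Fix T w hw
  let Tq : (V ⧸ W) →ₛₗ[σ] (V ⧸ W) := W.mapQ W T hWT
  have hTq : ∀ v : V, Tq (W.mkQ v) = W.mkQ (T v) := fun v => rfl
  have hspan : Submodule.span k (Set.range ⇑Tq) = ⊤ := by
    rw [eq_top_iff]
    rintro x -
    obtain ⟨v, rfl⟩ := W.mkQ_surjective x
    have hv : v ∈ Submodule.span k (Set.range ⇑T) := by rw [h1]; exact Submodule.mem_top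
    induction hv using Submodule.span_induction with
    | mem x hx =>
      obtain ⟨y, rfl⟩ := hx
      exact Submodule.subset_span ⟨W.mkQ y, rfl⟩
    | zero => rw [map_zero]; exact Submodule.zero_mem _
    | add x y _ _ hx hy => rw [map_add]; exact Submodule.add_mem _ hx hy
    | smul c x _ hx => rw [map_smul]; exact Submodule.smul_mem _ _ hx
  have hinj : Function.Injective Tq := injective_of_span_range_eq_top Tq hspan
  have hnt : Nontrivial (V ⧸ W) := Submodule.Quotient.nontrivial_iff.mpr hne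
  obtain ⟨e, he⟩ := exists_ne (0 : V ⧸ W)
  have he' : ∀ m : ℕ, (⇑Tq)^[m] e ≠ 0 := by
    intro m hm
    apply he
    apply hinj.iterate m
    rw [hm, iterate_zero]
  obtain ⟨vq, -, hvq0, hvq⟩ := exists_fixed_in_orbit Tq h2 e he'
  obtain ⟨v, rfl⟩ := W.mkQ_surjective vq
  have hw : T v - v ∈ W := by
    have : W.mkQ (T v - v) = 0 := by rw [map_sub, ← hTq, hvq, sub_self]
    exact (Submodule.Quotient.mk_eq_zero W).mp this
  obtain ⟨u, hu, huw⟩ := exists_sub_eq_of_mem_span_Fix T h3 _ hw
  have hfix : T (v + u) = v + u := by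
    rw [map_add]
    have : T v = v + (u - T u) := by rw [huw]; abel
    rw [this]; abel
  have hmem : v + u ∈ W := Submodule.subset_span hfix
  have : W.mkQ v = 0 := by
    have h5 : W.mkQ (v + u) = 0 := (Submodule.Quotient.mk_eq_zero W).mpr hmem
    have h6 : W.mkQ u = 0 := (Submodule.Quotient.mk_eq_zero W).mpr hu
    rw [map_add, h6, add_zero] at h5
    exact h5
  exact hvq0 this

/-- basis of fixed vectors -/
theorem exists_basis_fixed (T : V →ₛₗ[σ] V) (h1 : Submodule.span k (Set.range ⇑T) = ⊤)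
    (h2 : H2 σ) (h3 : H3 σ) :
    ∃ b : Module.Basis (Fin (Module.finrank k V)) k V, ∀ i, T (b i) = b i := by
  classical
  obtain ⟨s, hsF, hspan, hli⟩ := exists_linearIndependent k (Fix T)
  rw [span_Fix_eq_top T h1 h2 h3] at hspan
  let b₀ : Module.Basis s k V := Module.Basis.mk hli (by rw [Subtype.range_coe_subtype]; simpa using hspan.ge)
  letI : Fintype s := FiniteDimensional.fintypeBasisIndex b₀
  have hcard : Fintype.card s = Module.finrank k V := (Module.finrank_eq_card_basis b₀).symm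
  let e : s ≃ Fin (Module.finrank k V) := Fintype.equivFinOfCardEq hcard
  refine ⟨b₀.reindex e, fun i => ?_⟩
  rw [Module.Basis.reindex_apply, Module.Basis.mk_apply]
  exact hsF (e.symm i).2

theorem sub_surjective_of_span (T : V →ₛₗ[σ] V) (h1 : Submodule.span k (Set.range ⇑T) = ⊤)
    (h2 : H2 σ) (h3 : H3 σ) : Function.Surjective (fun v : V => v - T v) := by
  intro w
  have hw : w ∈ Submodule.span k (Fix T) := by
    rw [span_Fix_eq_top T h1 h2 h3]; exact Submodule.mem_top
  obtain ⟨u, -, hu⟩ := exists_sub_eq_of_mem_span_Fix T h3 w hw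
  exact ⟨u, hu⟩

end FD

end Groth.Agent.Helper6.SigmaLin

namespace Groth.Agent.Helper6.SigmaLin

universe u v
variable {k : Type u} [Field k] {σ : k →+* k} {V : Type v} [AddCommGroup V] [Module k V]
  [FiniteDimensional k V]

/-- general surjectivity of `1 - T` (given H2, H3) -/
theorem sub_surjective (T : V →ₛₗ[σ] V) (h2 : H2 σ) (h3 : H3 σ) :
    Function.Surjective (fun v : V => v - T v) := by
  intro v
  obtain ⟨N, hN⟩ := exists_Ss_eq T
  -- T^N v ∈ Ss
  have hmem : (⇑T)^[N] v ∈ Ss T := by rw [hN N le_rfl]; exact iterate_mem_Im T N v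
  obtain ⟨s, hs⟩ := sub_surjective_of_span (Ts T) (span_range_Ts T) h2 h3 ⟨_, hmem⟩
  have hs' : (s : V) - T s = (⇑T)^[N] v := by
    have := congrArg Subtype.val hs
    simpa using this
  -- geometric sum
  have hgeo : ∀ n : ℕ, (∑ i ∈ Finset.range n, (⇑T)^[i] v) - T (∑ i ∈ Finset.range n, (⇑T)^[i] v)
      = v - (⇑T)^[n] v := by
    intro n
    induction n with
    | zero => simp
    | succ n ih =>
      rw [Finset.sum_range_succ, map_add, ← Function.iterate_succ_apply' (⇑T) n v]
      have : (∑ i ∈ Finset.range n, (⇑T)^[i] v) + (⇑T)^[n] v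
          - (T (∑ i ∈ Finset.range n, (⇑T)^[i] v) + (⇑T)^[n + 1] v)
          = ((∑ i ∈ Finset.range n, (⇑T)^[i] v) - T (∑ i ∈ Finset.range n, (⇑T)^[i] v))
            + (⇑T)^[n] v - (⇑T)^[n + 1] v := by abel
      rw [this, ih]; abel
  refine ⟨(∑ i ∈ Finset.range N, (⇑T)^[i] v) + (s : V), ?_⟩
  simp only
  rw [map_add]
  have : (∑ i ∈ Finset.range N, (⇑T)^[i] v) + (s : V)
      - (T (∑ i ∈ Finset.range N, (⇑T)^[i] v) + T s)
      = ((∑ i ∈ Finset.range N, (⇑T)^[i] v) - T (∑ i ∈ Finset.range N, (⇑T)^[i] v))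
        + ((s : V) - T s) := by abel
  rw [this, hgeo, hs']; abel

/-- the semisimple part has a basis of fixed vectors -/
theorem exists_basis_fixed_Ss (T : V →ₛₗ[σ] V) (h2 : H2 σ) (h3 : H3 σ) :
    ∃ b : Module.Basis (Fin (Module.finrank k (Ss T))) k (Ss T), ∀ i, T (b i : V) = (b i : V) := by
  obtain ⟨b, hb⟩ := exists_basis_fixed (Ts T) (span_range_Ts T) h2 h3
  refine ⟨b, fun i => ?_⟩
  have := congrArg Subtype.val (hb i)
  simpa using this

end Groth.Agent.Helper6.SigmaLin
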