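import Groth.Agent.Lib.Helper6.SigmaLin.Fixed

/-! The solvability hypotheses H2, H3 for power maps over separably closed fields and for the
inverse Frobenius over algebraically closed fields. -/

set_option autoImplicit false

namespace Groth.Agent.Helper6.SigmaLin

open Polynomial

universe u
variable {k : Type u} [Field k]

theorem iterate_eq_pow (σ : k →+* k) (q : ℕ) (hσ : ∀ y, σ y = y ^ q) (i : ℕ) (y : k) :
    (⇑σ)^[i] y = y ^ (q ^ i) := by
  induction i generalizing y with
  | zero => simp
  | succ i ih => rw [Function.iterate_succ_apply', ih, hσ, ← pow_mul, pow_succ]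

section SepClosed
variable [IsSepClosed k] (p : ℕ) [Fact p.Prime] [CharP k p]

theorem H3_pow (σ : k →+* k) (r : ℕ) (hr : 0 < r) (hσ : ∀ y, σ y = y ^ (p ^ r)) : H3 σ := by
  intro c
  have hp : p.Prime := Fact.out
  have h2 : 2 ≤ p ^ r := by
    calc 2 ≤ p := hp.two_le
      _ = p ^ 1 := (pow_one p).symm
      _ ≤ p ^ r := Nat.pow_le_pow_right hp.pos hr
  obtain ⟨x, hx⟩ := IsSepClosed.exists_root_C_mul_X_pow_add_C_mul_X_add_C' p (p ^ r) (1 : k) (-1) c
    (dvd_pow_self p (by omega)) h2 (by simp)
  refine ⟨x, ?_⟩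
  rw [hσ]
  linear_combination hx

theorem H2_pow (σ : k →+* k) (r : ℕ) (hr : 0 < r) (hσ : ∀ y, σ y = y ^ (p ^ r)) : H2 σ := by
  classical
  intro n b hb
  have hp : p.Prime := Fact.out
  set q := p ^ r with hq
  have h2 : 2 ≤ q := by
    calc 2 ≤ p := hp.two_le
      _ = p ^ 1 := (pow_one p).symm
      _ ≤ p ^ r := Nat.pow_le_pow_right hp.pos hr
  have hq0 : (q : k) = 0 := by
    rw [hq, Nat.cast_pow, CharP.cast_eq_zero, zero_pow (by omega)]
  let c : Fin (n + 1) → k := fun i => (b (Fin.rev i)) ^ (q ^ i.val)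
  -- some c i is nonzero
  obtain ⟨j, hj⟩ : ∃ j, b j ≠ 0 := by
    by_contra hcon
    push Not at hcon
    exact hb (funext hcon)
  have hcj : c (Fin.rev j) ≠ 0 := by
    simp only [c, Fin.rev_rev]
    exact pow_ne_zero _ hj
  let Pl : k[X] := ∑ i : Fin (n + 1), C (c i) * X ^ (q ^ (i.val + 1))
  let Q : k[X] := (∑ i : Fin (n + 1), C (c i) * X ^ (q ^ (i.val + 1) - 1)) - 1
  have hXQ : X * Q = Pl - X := by
    simp only [Q, Pl]
    rw [mul_sub, mul_one, Finset.mul_sum]
    congr 1
    refine Finset.sum_congr rfl fun i _ => ?_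
    have : q ^ (i.val + 1) = (q ^ (i.val + 1) - 1) + 1 := by
      have : 0 < q ^ (i.val + 1) := Nat.pow_pos (by omega)
      omega
    conv_rhs => rw [this, pow_succ]
    ring
  have hder : derivative (Pl - X) = -1 := by
    simp only [Pl]
    rw [derivative_sub, derivative_X, derivative_sum]
    have : ∀ i : Fin (n + 1), derivative (C (c i) * X ^ (q ^ (i.val + 1)) : k[X]) = 0 := by
      intro i
      rw [derivative_C_mul_X_pow]
      have : ((q ^ (i.val + 1) : ℕ) : k) = 0 := by
        rw [Nat.cast_pow, hq0, zero_pow (by omega)]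
      rw [this, mul_zero, map_zero, zero_mul]
    simp [this]
  have hsepP : (Pl - X).Separable := by
    rw [separable_def, hder]
    exact isCoprime_one_right.neg_right
  have hsepQ : Q.Separable := by
    rw [← hXQ] at hsepP
    exact hsepP.of_mul_right
  -- degree of Q
  have hcoeff : Q.coeff (q ^ ((Fin.rev j).val + 1) - 1) = c (Fin.rev j) := by
    simp only [Q]
    have hpos : 0 < q ^ ((Fin.rev j).val + 1) - 1 := by
      have : q ^ 1 ≤ q ^ ((Fin.rev j).val + 1) := Nat.pow_le_pow_right (by omega) (by omega)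
      rw [pow_one] at this
      omega
    rw [coeff_sub, finsetSum_coeff, coeff_one, if_neg (by omega), sub_zero]
    rw [Finset.sum_eq_single (Fin.rev j)]
    · rw [coeff_C_mul, coeff_X_pow, if_pos rfl, mul_one]
    · intro i _ hi
      rw [coeff_C_mul, coeff_X_pow, if_neg, mul_zero]
      intro heq
      apply hi
      have h1 : q ^ ((Fin.rev j).val + 1) = q ^ (i.val + 1) := by
        have h3 : 0 < q ^ ((Fin.rev j).val + 1) := Nat.pow_pos (by omega)
        have h4 : 0 < q ^ (i.val + 1) := Nat.pow_pos (by omega)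
        omega
      have := Nat.pow_right_injective h2 h1
      apply Fin.ext
      omega
    · intro h; exact absurd (Finset.mem_univ _) h
  have hdeg : Q.degree ≠ 0 := by
    apply degree_ne_of_natDegree_ne (n := 0)
    have hle : q ^ ((Fin.rev j).val + 1) - 1 ≤ Q.natDegree := by
      apply le_natDegree_of_ne_zero
      rw [hcoeff]; exact hcj
    have hpos : 0 < q ^ ((Fin.rev j).val + 1) - 1 := by
      have : q ^ 1 ≤ q ^ ((Fin.rev j).val + 1) := Nat.pow_le_pow_right (by omega) (by omega)
      rw [pow_one] at this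
      omega
    omega
  obtain ⟨x, hx⟩ := IsSepClosed.exists_root Q hdeg hsepQ
  have hQx : (∑ i : Fin (n + 1), c i * x ^ (q ^ (i.val + 1) - 1)) = 1 := by
    have : Q.eval x = 0 := hx
    simp only [Q, eval_sub, eval_finsetSum, eval_mul, eval_C, eval_pow, eval_X, eval_one] at this
    exact sub_eq_zero.mp this
  have hx0 : x ≠ 0 := by
    rintro rfl
    have h0 : ∀ i : Fin (n + 1), c i * (0 : k) ^ (q ^ (i.val + 1) - 1) = 0 := by
      intro i
      have hpos : 0 < q ^ (i.val + 1) - 1 := by
        have : q ^ 1 ≤ q ^ (i.val + 1) := Nat.pow_le_pow_right (by omega) (by omega)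
        rw [pow_one] at this
        omega
      rw [zero_pow (by omega), mul_zero]
    rw [Finset.sum_congr rfl (fun i _ => h0 i)] at hQx
    simp at hQx
  refine ⟨x, hx0, ?_⟩
  have hmul : x = ∑ i : Fin (n + 1), c i * x ^ (q ^ (i.val + 1)) := by
    calc x = x * 1 := (mul_one x).symm
      _ = x * ∑ i : Fin (n + 1), c i * x ^ (q ^ (i.val + 1) - 1) := by rw [hQx]
      _ = ∑ i : Fin (n + 1), c i * x ^ (q ^ (i.val + 1)) := by
        rw [Finset.mul_sum]
        refine Finset.sum_congr rfl fun i _ => ?_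
        have : q ^ (i.val + 1) = (q ^ (i.val + 1) - 1) + 1 := by
          have : 0 < q ^ (i.val + 1) := Nat.pow_pos (by omega)
          omega
        conv_rhs => rw [this, pow_succ]
        ring
  conv_lhs => rw [hmul]
  refine Finset.sum_congr rfl fun i _ => ?_
  rw [iterate_eq_pow σ q hσ, iterate_eq_pow σ q hσ]
  ring

end SepClosed

end Groth.Agent.Helper6.SigmaLin
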