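import Groth.Agent.Lib.Helper6.SigmaLin.Hyp

/-! The solvability hypotheses H2, H3 for the inverse Frobenius over algebraically closed fields. -/

set_option autoImplicit false

namespace Groth.Agent.Helper6.SigmaLin

open Polynomial

universe u
variable {k : Type u} [Field k] [IsAlgClosed k] (p : ℕ) [Fact p.Prime] [CharP k p]

omit [IsAlgClosed k] [Fact p.Prime] [CharP k p] in
theorem iterate_inv_pow (τ : k →+* k) (hτ : ∀ y, (τ y) ^ p = y) (i : ℕ) (y : k) :
    ((⇑τ)^[i] y) ^ (p ^ i) = y := by
  induction i generalizing y with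
  | zero => simp
  | succ i ih =>
    rw [Function.iterate_succ_apply', pow_succ', pow_mul, hτ, ih]

omit [IsAlgClosed k] [Fact p.Prime] [CharP k p] in
theorem iterate_inv_pow' (τ : k →+* k) (hτ : ∀ y, (τ y) ^ p = y) (i m : ℕ) (him : i ≤ m) (y : k) :
    ((⇑τ)^[i] y) ^ (p ^ m) = y ^ (p ^ (m - i)) := by
  obtain ⟨d, rfl⟩ := Nat.exists_eq_add_of_le him
  rw [pow_add, pow_mul, iterate_inv_pow p τ hτ, Nat.add_sub_cancel_left]

theorem H3_frobInv (τ : k →+* k) (hτ : ∀ y, (τ y) ^ p = y) : H3 τ := by
  intro c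
  have hp : p.Prime := Fact.out
  -- z - z^p + c = 0
  obtain ⟨z, hz⟩ := IsSepClosed.exists_root_C_mul_X_pow_add_C_mul_X_add_C' p p (-1 : k) 1 c
    (dvd_refl p) hp.two_le one_ne_zero
  refine ⟨z ^ p, ?_⟩
  have h1 : τ (z ^ p) = z := by
    have h2 : (τ (z ^ p)) ^ p = z ^ p := hτ _
    have := frobenius_inj k p
    exact this h2
  rw [h1]
  linear_combination hz

theorem H2_frobInv (τ : k →+* k) (hτ : ∀ y, (τ y) ^ p = y) : H2 τ := by
  classical
  intro n b hb
  have hp : p.Prime := Fact.out
  have hp2 : 2 ≤ p := hp.two_le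
  -- d i = (b (rev i))^(p^(n+1-i)), G = X^(p^(n+1)) - Σ C (d i) X^(p^(n-i))
  let d : Fin (n + 1) → k := fun i => (b (Fin.rev i)) ^ (p ^ (n + 1 - i.val))
  let G : k[X] := X ^ (p ^ (n + 1)) - ∑ i : Fin (n + 1), C (d i) * X ^ (p ^ (n - i.val))
  obtain ⟨j, hj⟩ : ∃ j, b j ≠ 0 := by
    by_contra hcon
    push Not at hcon
    exact hb (funext hcon)
  have hdj : d (Fin.rev j) ≠ 0 := by
    simp only [d, Fin.rev_rev]
    exact pow_ne_zero _ hj
  have hlt : ∀ i : Fin (n + 1), p ^ (n - i.val) < p ^ (n + 1) := fun i =>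
    Nat.pow_lt_pow_right (by omega) (by omega)
  have hcoeffG : ∀ i : Fin (n + 1), G.coeff (p ^ (n - i.val)) = - d i := by
    intro i
    simp only [G]
    rw [coeff_sub, coeff_X_pow, if_neg (by have := hlt i; omega), zero_sub, finsetSum_coeff]
    rw [Finset.sum_eq_single i]
    · rw [coeff_C_mul, coeff_X_pow, if_pos rfl, mul_one]
    · intro i' _ hi'
      rw [coeff_C_mul, coeff_X_pow, if_neg, mul_zero]
      intro heq
      apply hi'
      have := Nat.pow_right_injective hp2 heq
      apply Fin.ext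
      have h1 := i.2
      have h2 := i'.2
      omega
    · intro h; exact absurd (Finset.mem_univ _) h
  have hdegsum : (∑ i : Fin (n + 1), C (d i) * X ^ (p ^ (n - i.val))).degree
      < ((X : k[X]) ^ (p ^ (n + 1))).degree := by
    rw [degree_X_pow]
    refine lt_of_le_of_lt (degree_sum_le _ _) ?_
    rw [Finset.sup_lt_iff (by exact WithBot.bot_lt_coe _)]
    intro i _
    refine lt_of_le_of_lt (degree_C_mul_X_pow_le _ _) ?_
    exact_mod_cast hlt i
  have hmonic : G.Monic := by
    simp only [G]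
    exact (monic_X_pow _).sub_of_left hdegsum
  have hnat : G.natDegree = p ^ (n + 1) := by
    apply natDegree_eq_of_degree_eq_some
    simp only [G]
    rw [degree_sub_eq_left_of_degree_lt hdegsum, degree_X_pow]
  -- a nonzero root exists
  obtain ⟨x, hx0, hx⟩ : ∃ x : k, x ≠ 0 ∧ G.IsRoot x := by
    by_contra hcon
    push Not at hcon
    have hroots : ∀ a ∈ G.roots, a = 0 := by
      intro a ha
      by_contra hne
      exact hcon a hne (isRoot_of_mem_roots ha)
    have hsplit := IsAlgClosed.splits G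
    have hprod := hsplit.eq_prod_roots
    rw [hmonic.leadingCoeff, C_1, one_mul] at hprod
    have hrep : G.roots = Multiset.replicate (Multiset.card G.roots) 0 :=
      Multiset.eq_replicate.mpr ⟨rfl, hroots⟩
    have hcard : Multiset.card G.roots = p ^ (n + 1) := by
      rw [← hnat]
      exact hsplit.natDegree_eq_card_roots.symm
    rw [hrep, Multiset.map_replicate, Multiset.prod_replicate, hcard, C_0, sub_zero] at hprod
    have := hcoeffG (Fin.rev j)
    rw [hprod, coeff_X_pow, if_neg (by have := hlt (Fin.rev j); omega)] at this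
    exact hdj (neg_eq_zero.mp this.symm)
  refine ⟨x, hx0, ?_⟩
  have hGx : x ^ (p ^ (n + 1)) = ∑ i : Fin (n + 1), d i * x ^ (p ^ (n - i.val)) := by
    have : G.eval x = 0 := hx
    simp only [G, eval_sub, eval_finsetSum, eval_mul, eval_C, eval_pow, eval_X] at this
    exact sub_eq_zero.mp this
  -- apply injectivity of the (n+1)-st Frobenius power
  have hinj : Function.Injective (fun y : k => y ^ (p ^ (n + 1))) := by
    have := (frobenius_inj k p).iterate (n + 1)
    have h2 : (⇑(frobenius k p))^[n + 1] = fun y : k => y ^ (p ^ (n + 1)) := by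
      funext y
      rw [iterate_frobenius]
    rw [h2] at this
    exact this
  apply hinj
  simp only
  rw [hGx]
  have hfr : ∀ (s : Finset (Fin (n + 1))) (f : Fin (n + 1) → k),
      (∑ i ∈ s, f i) ^ (p ^ (n + 1)) = ∑ i ∈ s, (f i) ^ (p ^ (n + 1)) := by
    intro s f
    have := map_sum (iterateFrobenius k p (n + 1)) f s
    exact this
  rw [hfr]
  refine Finset.sum_congr rfl fun i _ => ?_
  rw [mul_pow, iterate_inv_pow' p τ hτ (i.val + 1) (n + 1) (by omega),
    iterate_inv_pow' p τ hτ i.val (n + 1) (by omega)]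
  have e1 : n + 1 - (i.val + 1) = n - i.val := by omega
  rw [e1]
  ring

end Groth.Agent.Helper6.SigmaLin
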