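import Groth.Agent.Lib.Helper6.SigmaLin.Fixed2

/-! Semilinear endomorphisms of finite modules over a ring `R` with a nilpotent principal maximal
ideal: dévissage to the residue field. -/

set_option autoImplicit false

namespace Groth.Agent.Helper6.SigmaLin

universe u v

open scoped Pointwise

attribute [local instance] Ideal.Quotient.field

variable {R : Type u} [CommRing R] (𝔪 : Ideal R) [𝔪.IsMaximal]
  {σ : R →+* R} (σbar : R ⧸ 𝔪 →+* R ⧸ 𝔪)
  (hσbar : ∀ r, σbar (Ideal.Quotient.mk 𝔪 r) = Ideal.Quotient.mk 𝔪 (σ r))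
  {M : Type v} [AddCommGroup M] [Module R M]

/-- `T` preserves `𝔪 M` -/
theorem map_smul_top_le (hσ𝔪 : ∀ a ∈ 𝔪, σ a ∈ 𝔪) (T : M →ₛₗ[σ] M) :
    (𝔪 • ⊤ : Submodule R M) ≤ (𝔪 • ⊤ : Submodule R M).comap T := by
  intro x hx
  rw [Submodule.mem_comap]
  refine Submodule.smul_induction_on hx ?_ ?_
  · intro a ha m _
    rw [LinearMap.map_smulₛₗ]
    exact Submodule.smul_mem_smul (hσ𝔪 a ha) Submodule.mem_top
  · intro x y hx hy
    rw [map_add]; exact Submodule.add_mem _ hx hy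

/-- the induced semilinear endomorphism of `M / 𝔪 M` over the field `R / 𝔪` -/
noncomputable def Tbar (hσ𝔪 : ∀ a ∈ 𝔪, σ a ∈ 𝔪) (T : M →ₛₗ[σ] M) :
    (M ⧸ (𝔪 • ⊤ : Submodule R M)) →ₛₗ[σbar] (M ⧸ (𝔪 • ⊤ : Submodule R M)) where
  toFun := Submodule.mapQ _ _ T (map_smul_top_le 𝔪 hσ𝔪 T)
  map_add' := map_add _
  map_smul' := by
    intro c x
    obtain ⟨r, rfl⟩ := Ideal.Quotient.mk_surjective c
    obtain ⟨m, rfl⟩ := Submodule.Quotient.mk_surjective _ x
    rw [hσbar]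
    show Submodule.mapQ _ _ T (map_smul_top_le 𝔪 hσ𝔪 T) (Submodule.Quotient.mk (r • m)) = _
    rw [Submodule.mapQ_apply, LinearMap.map_smulₛₗ]
    rfl

theorem Tbar_mk (hσ𝔪 : ∀ a ∈ 𝔪, σ a ∈ 𝔪) (T : M →ₛₗ[σ] M) (m : M) :
    Tbar 𝔪 σbar hσbar hσ𝔪 T (Submodule.Quotient.mk m) = Submodule.Quotient.mk (T m) := rfl

variable [Module.Finite R M]

instance : Module.Finite (R ⧸ 𝔪) (M ⧸ (𝔪 • ⊤ : Submodule R M)) :=
  Module.Finite.of_restrictScalars_finite R (R ⧸ 𝔪) _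

include hσbar in
/-- dévissage: `1 - T` is surjective -/
theorem sub_surjective_ring (π : R) (h𝔪 : 𝔪 = Ideal.span {π}) (n : ℕ) (hn : π ^ n = 0)
    (hσπ : σ π = π) (h2 : H2 σbar) (h3 : H3 σbar) (T : M →ₛₗ[σ] M) :
    Function.Surjective (fun m : M => m - T m) := by
  have hσ𝔪 : ∀ a ∈ 𝔪, σ a ∈ 𝔪 := by
    intro a ha
    rw [h𝔪, Ideal.mem_span_singleton'] at ha ⊢
    obtain ⟨r, rfl⟩ := ha
    exact ⟨σ r, by rw [map_mul, hσπ]⟩
  have hsurj := sub_surjective (Tbar 𝔪 σbar hσbar hσ𝔪 T) h2 h3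
  have hTpow : ∀ (j : ℕ) (m : M), T (π ^ j • m) = π ^ j • T m := by
    intro j m
    rw [LinearMap.map_smulₛₗ, map_pow, hσπ]
  have key : ∀ j : ℕ, ∀ m : M, ∃ u m' : M, m = (u - T u) + π ^ j • m' := by
    intro j
    induction j with
    | zero => intro m; exact ⟨0, m, by simp⟩
    | succ j ih =>
      intro m
      obtain ⟨u, m', hm⟩ := ih m
      obtain ⟨ub, hub⟩ := hsurj (Submodule.Quotient.mk m')
      obtain ⟨u', rfl⟩ := Submodule.Quotient.mk_surjective _ ub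
      simp only [Tbar_mk] at hub
      rw [← Submodule.Quotient.mk_sub, Submodule.Quotient.eq] at hub
      have hmem : (u' - T u') - m' ∈ (π • ⊤ : Submodule R M) := by
        rw [← Submodule.ideal_span_singleton_smul, ← h𝔪]
        exact hub
      rw [Submodule.mem_smul_pointwise_iff_exists] at hmem
      obtain ⟨m'', -, hm''⟩ := hmem
      refine ⟨u + π ^ j • u', -m'', ?_⟩
      rw [map_add, hTpow, hm]
      have : m' = (u' - T u') - π • m'' := by rw [hm'']; abel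
      rw [this, pow_succ, mul_smul]
      simp only [smul_sub, smul_neg]
      abel
  intro m
  obtain ⟨u, m', hm⟩ := key n m
  refine ⟨u, ?_⟩
  simp only
  rw [hm, hn, zero_smul, add_zero]

end Groth.Agent.Helper6.SigmaLin
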