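import Groth.Agent.Lib.Helper6.SigmaLin.Fixed

/-! Transport of the hypotheses H2, H3 along a ring isomorphism. -/

set_option autoImplicit false

namespace Groth.Agent.Helper6.SigmaLin

universe u v
variable {K : Type u} {k : Type v} [Field K] [Field k] (e : K ≃+* k) (σK : K →+* K) (σ : k →+* k)
  (h : ∀ y, e (σK y) = σ (e y))

include h in
theorem iterate_transport (i : ℕ) (y : K) : e ((⇑σK)^[i] y) = (⇑σ)^[i] (e y) := by
  induction i generalizing y with
  | zero => rfl
  | succ i ih => rw [Function.iterate_succ_apply', Function.iterate_succ_apply', h, ih]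

include h in
theorem H2_transport (h2 : H2 σ) : H2 σK := by
  intro n b hb
  have hb' : (fun i => e (b i)) ≠ 0 := by
    intro h0
    apply hb
    funext i
    have := congrFun h0 i
    simpa using this
  obtain ⟨x, hx0, hx⟩ := h2 n (fun i => e (b i)) hb'
  refine ⟨e.symm x, by simpa using hx0, ?_⟩
  apply e.injective
  rw [map_sum, e.apply_symm_apply]
  conv_lhs => rw [hx]
  refine Finset.sum_congr rfl fun i _ => ?_
  rw [map_mul, iterate_transport e σK σ h, iterate_transport e σK σ h, e.apply_symm_apply]

include h in
theorem H3_transport (h3 : H3 σ) : H3 σK := by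
  intro c
  obtain ⟨y, hy⟩ := h3 (e c)
  refine ⟨e.symm y, ?_⟩
  apply e.injective
  rw [map_add, map_sub, h, e.apply_symm_apply, map_zero]
  exact hy

include h in
theorem finite_fixed_transport (hfin : {c : k | σ c = c}.Finite) : {c : K | σK c = c}.Finite := by
  apply Set.Finite.of_finite_image (f := e) _ e.injective.injOn
  apply hfin.subset
  rintro _ ⟨c, hc, rfl⟩
  show σ (e c) = e c
  rw [← h, hc]

end Groth.Agent.Helper6.SigmaLin
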