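import Mathlib

/-! Truncated Witt vectors over a perfect field of characteristic `p`: the constant coefficient map,
its kernel `(p)`, nilpotence of `p`. -/

set_option autoImplicit false

namespace Groth.Agent.Helper6.SigmaLin.Witt

open WittVector

universe u
variable (p : ℕ) [Fact p.Prime] (k : Type u) [CommRing k] (n : ℕ)

theorem truncate_out (x : TruncatedWittVector p n k) : WittVector.truncate n x.out = x :=
  TruncatedWittVector.truncateFun_out x

/-- constant coefficient on truncated Witt vectors of length `n+1` -/
noncomputable def c0 : TruncatedWittVector p (n + 1) k →+* k :=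
  (WittVector.truncate (p := p) (R := k) (n + 1)).liftOfRightInverse TruncatedWittVector.out
    (truncate_out p k (n + 1))
    ⟨WittVector.constantCoeff, by
      intro x hx
      rw [WittVector.mem_ker_truncate] at hx
      rw [RingHom.mem_ker]
      exact hx 0 (Nat.succ_pos n)⟩

theorem c0_truncate (X : WittVector p k) : c0 p k n (WittVector.truncate (n + 1) X) = X.coeff 0 := by
  unfold c0
  rw [RingHom.liftOfRightInverse_comp_apply]
  rfl

theorem c0_apply (x : TruncatedWittVector p (n + 1) k) : c0 p k n x = x.coeff 0 := by
  conv_lhs => rw [← truncate_out p k (n + 1) x]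
  rw [c0_truncate]
  exact TruncatedWittVector.coeff_out x 0

theorem c0_surjective : Function.Surjective (c0 p k n) := by
  intro a
  refine ⟨WittVector.truncate (n + 1) (WittVector.mk p fun _ => a), ?_⟩
  rw [c0_truncate]
  rfl

section CharP
variable [CharP k p]

theorem p_pow_eq_zero : ((p : TruncatedWittVector p n k)) ^ n = 0 := by
  have h1 : ((p : TruncatedWittVector p n k)) ^ n = WittVector.truncate n ((p : WittVector p k) ^ n) := by
    rw [map_pow, map_natCast]
  rw [h1, ← RingHom.mem_ker, WittVector.mem_ker_truncate]
  intro i hi
  exact WittVector.coeff_p_pow_eq_zero p k (by omega)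

theorem ker_c0 [PerfectRing k p] :
    RingHom.ker (c0 p k n) = Ideal.span {(p : TruncatedWittVector p (n + 1) k)} := by
  apply le_antisymm
  · intro x hx
    rw [RingHom.mem_ker, c0_apply] at hx
    set X := x.out with hX
    have hX0 : ∀ i < 1, X.coeff i = 0 := by
      intro i hi
      have : i = 0 := by omega
      rw [this]
      have := TruncatedWittVector.coeff_out x 0
      simp only [Fin.val_zero] at this
      rw [hX, this]
      exact hx
    have h1 := WittVector.eq_iterate_verschiebung hX0
    simp only [Function.iterate_one] at h1
    obtain ⟨Z, hZ⟩ := (WittVector.frobenius_bijective p k).surjective (X.shift 1)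
    rw [← hZ, WittVector.verschiebung_frobenius] at h1
    rw [Ideal.mem_span_singleton']
    refine ⟨WittVector.truncate (n + 1) Z, ?_⟩
    rw [← truncate_out p k (n + 1) x, ← hX, h1, map_mul, map_natCast]
  · rw [Ideal.span_le]
    intro x hx
    rw [Set.mem_singleton_iff] at hx
    rw [hx]
    show c0 p k n _ = 0
    rw [map_natCast]
    exact CharP.cast_eq_zero k p

end CharP

end Groth.Agent.Helper6.SigmaLin.Witt
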