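import Groth.Prelude.Def_WittGrp
import Groth.Agent.Lib.Helper6.SigmaLin.Witt
import Groth.Agent.Lib.Helper6.SigmaLin.Transport
import Groth.Agent.Lib.Helper6.SigmaLin.Finite
import Groth.Agent.Lib.Helper6.SigmaLin.HypInv

/-! Semilinear endomorphisms of finite modules over truncated Witt vectors of an algebraically
closed field. -/

set_option autoImplicit false

namespace Groth.Agent.Helper6.SigmaLin.Witt

universe u v

attribute [local instance] Ideal.Quotient.field

variable (p : ℕ) [Fact p.Prime] (k : Type u) [Field k] [CharP k p] [IsAlgClosed k]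

/-- the relevant endomorphisms of `k` -/
def IsFrobLike (f : k →+* k) : Prop := (∀ y, f y = y ^ p) ∨ (∀ y, (f y) ^ p = y)

variable {p k}

theorem H2_of_isFrobLike (f : k →+* k) (hf : IsFrobLike p k f) : H2 f := by
  rcases hf with hf | hf
  · exact H2_pow p f 1 one_pos (by simpa using hf)
  · exact H2_frobInv p f hf

theorem H3_of_isFrobLike (f : k →+* k) (hf : IsFrobLike p k f) : H3 f := by
  rcases hf with hf | hf
  · exact H3_pow p f 1 one_pos (by simpa using hf)
  · exact H3_frobInv p f hf

omit [CharP k p] [IsAlgClosed k] in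
theorem finite_fixed_of_isFrobLike (f : k →+* k) (hf : IsFrobLike p k f) :
    {c : k | f c = c}.Finite := by
  classical
  have hp : p.Prime := Fact.out
  have hne : (Polynomial.X ^ p - Polynomial.X : Polynomial k) ≠ 0 :=
    FiniteField.X_pow_card_sub_X_ne_zero k hp.one_lt
  apply ((Polynomial.X ^ p - Polynomial.X : Polynomial k).roots.toFinset.finite_toSet).subset
  intro c hc
  have hc' : c ^ p = c := by
    rcases hf with hf | hf
    · rw [← hf]; exact hc
    · have h1 : f c = c := hc
      have := hf c
      rw [h1] at this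
      exact this
  simp only [Finset.mem_coe, Multiset.mem_toFinset]
  rw [Polynomial.mem_roots hne]
  simp [hc']

variable (p k)

theorem main (n : ℕ) (f : k →+* k) (hf : IsFrobLike p k f)
    (M : Type v) [AddCommGroup M] [Module (TruncatedWittVector p n k) M]
    [Module.Finite (TruncatedWittVector p n k) M]
    (T : M →ₛₗ[WittGrp.truncMap p n f] M) :
    Function.Surjective (fun m : M => m - T m) ∧ {m : M | T m = m}.Finite := by
  rcases n with _ | n
  · -- trivial ring
    have hsub : ∀ m : M, m = 0 := by
      intro m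
      have h10 : (1 : TruncatedWittVector p 0 k) = 0 := by
        apply TruncatedWittVector.ext
        intro i
        exact i.elim0
      rw [← one_smul (TruncatedWittVector p 0 k) m, h10, zero_smul]
    constructor
    · intro m; exact ⟨0, by rw [hsub m]; simp⟩
    · apply (Set.finite_singleton (0 : M)).subset
      intro m _
      exact hsub m
  · let R := TruncatedWittVector p (n + 1) k
    let σ : R →+* R := WittGrp.truncMap p (n + 1) f
    let c : R →+* k := c0 p k n
    have hcsurj : Function.Surjective c := c0_surjective p k n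
    let 𝔪 : Ideal R := RingHom.ker c
    haveI : 𝔪.IsMaximal := RingHom.ker_isMaximal_of_surjective c hcsurj
    have h𝔪 : 𝔪 = Ideal.span {((p : ℕ) : R)} := ker_c0 p k n
    have hn : (((p : ℕ) : R)) ^ (n + 1) = 0 := p_pow_eq_zero p k (n + 1)
    have hσπ : σ ((p : ℕ) : R) = ((p : ℕ) : R) := map_natCast σ p
    have hcσ : ∀ x : R, c (σ x) = f (c x) := by
      intro x
      show c0 p k n (WittGrp.truncMap p (n + 1) f x) = f (c0 p k n x)
      rw [c0_apply, c0_apply, WittGrp.coeff_truncMap]
    have hle : 𝔪 ≤ 𝔪.comap σ := by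
      intro x hx
      rw [Ideal.mem_comap, RingHom.mem_ker, hcσ, (RingHom.mem_ker).mp hx, map_zero]
    let σbar : R ⧸ 𝔪 →+* R ⧸ 𝔪 := Ideal.quotientMap 𝔪 σ hle
    have hσbar : ∀ r, σbar (Ideal.Quotient.mk 𝔪 r) = Ideal.Quotient.mk 𝔪 (σ r) := fun r =>
      Ideal.quotientMap_mk
    let e : R ⧸ 𝔪 ≃+* k := RingHom.quotientKerEquivOfSurjective hcsurj
    have he : ∀ y, e (σbar y) = f (e y) := by
      intro y
      obtain ⟨x, rfl⟩ := Ideal.Quotient.mk_surjective y
      rw [hσbar]
      show RingHom.quotientKerEquivOfSurjective hcsurj (Ideal.Quotient.mk _ (σ x))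
        = f (RingHom.quotientKerEquivOfSurjective hcsurj (Ideal.Quotient.mk _ x))
      rw [RingHom.quotientKerEquivOfSurjective_apply_mk, RingHom.quotientKerEquivOfSurjective_apply_mk]
      exact hcσ x
    have h2 : H2 σbar := H2_transport e σbar f he (H2_of_isFrobLike f hf)
    have h3 : H3 σbar := H3_transport e σbar f he (H3_of_isFrobLike f hf)
    have hfin : {c : R ⧸ 𝔪 | σbar c = c}.Finite :=
      finite_fixed_transport e σbar f he (finite_fixed_of_isFrobLike f hf)
    constructor
    · exact sub_surjective_ring 𝔪 σbar hσbar ((p : ℕ) : R) h𝔪 (n + 1) hn hσπ h2 h3 T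
    · exact finite_Fix_ring 𝔪 σbar hσbar ((p : ℕ) : R) h𝔪 hσπ h2 h3 hfin (n + 1) M T
        (fun m => by rw [hn, zero_smul])

end Groth.Agent.Helper6.SigmaLin.Witt
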